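import Groth.Agent.RelDimLib.Local
import Groth.Agent.FibreDepth.AssComponents
import Groth.Agent.FlatStage.Smooth
import Groth.Agent.DCohLib.ProjMap
import Groth.Agent.ParaFLib.Stalk
import Groth.Agent.GeomRk.NormalFlat
import Groth.Agent.CatSpaceLib.Scheme
import Groth.Agent.S1717
import Groth.Agent.FlatDim.Trdeg

/-!
Fibres satisfying `(S_2)` are equidimensional near the point; stalks of the structure module of a fibre.
-/

set_option autoImplicit false
set_option linter.style.haveILetI false
universe u

open CategoryTheory CategoryTheory.Limits AlgebraicGeometry Topology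

namespace Groth.Agent.QGorNhdLib

open Groth.Agent.ParaFLib in
/-- The stalk of the structure sheaf of modules is the local ring. -/
noncomputable def oneEquiv (X : Scheme.{u}) (x : X) :
    X.presheaf.stalk x ≃ₗ[X.presheaf.stalk x] (Coh.structureModule X).presheaf.stalk x :=
  LinearEquiv.ofBijective (LinearMap.toSpanSingleton _ _ (oneG x)) (bijective_oneG x)

theorem hasSk_congr_module {R M N : Type u} [CommRing R] [AddCommGroup M] [Module R M] [AddCommGroup N]
    [Module R N] (e : M ≃ₗ[R] N) (k : ℕ) : LocCoh.HasSk k R M ↔ LocCoh.HasSk k R N := by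
  refine forall₂_congr fun p _ => ?_
  let e' := IsLocalizedModule.mapEquiv p.primeCompl (LocalizedModule.mkLinearMap p.primeCompl M)
    (LocalizedModule.mkLinearMap p.primeCompl N) (Localization.AtPrime p) e
  rw [Module.supportDim_eq_of_equiv e', Depth.depth_congr e']

/-- `(S_k)` for the structure module at a point is `(S_k)` for the local ring. -/
theorem skAt_structureModule_iff (X : Scheme.{u}) (x : X) (k : ℕ) :
    RelCanon.SkAt k (Coh.structureModule X) x ↔ LocCoh.HasSk k (X.presheaf.stalk x) (X.presheaf.stalk x) :=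
  (hasSk_congr_module (oneEquiv X x) k).symm

section Fibre

variable {Y T : Scheme.{u}} (f : Y ⟶ T) (x : Y)

theorem exists_pullback_stalk_equiv :
    Nonempty (((Scheme.Modules.pullback (f.fiberι (f.base x))).obj (Coh.structureModule Y)).presheaf.stalk (f.asFiber x)
      ≃ₗ[(f.fiber (f.base x)).presheaf.stalk (f.asFiber x)] (f.fiber (f.base x)).presheaf.stalk (f.asFiber x)) := by
  let i := DCohLib.pullStructureIso (f.fiberι (f.base x))
  exact ⟨LinearEquiv.ofBijective (PullbackMod.stalkLin i.hom (f.asFiber x))
    ((PullbackMod.isIso_iff_stalk i.hom).1 inferInstance (f.asFiber x)) ≪≫ₗ (oneEquiv _ _).symm⟩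

theorem fiberSupp_structureModule :
    FibreDepth.fiberSupp f (Coh.structureModule Y) x =
      ringKrullDim ((f.fiber (f.base x)).presheaf.stalk (f.asFiber x)) := by
  obtain ⟨e⟩ := exists_pullback_stalk_equiv f x
  exact (Module.supportDim_eq_of_equiv e).trans (Module.supportDim_self_eq_ringKrullDim _)

theorem fiberDepth_structureModule :
    CInt.fiberDepth f (Coh.structureModule Y) x =
      LocCoh.depth ((f.fiber (f.base x)).presheaf.stalk (f.asFiber x))
        ((f.fiber (f.base x)).presheaf.stalk (f.asFiber x)) := by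
  obtain ⟨e⟩ := exists_pullback_stalk_equiv f x
  exact Depth.depth_congr e

end Fibre

/-- A local ring with `(S_1)` and depth `0` has dimension `0`. -/
theorem dim_zero_of_hasSk_one {R : Type u} [CommRing R] [IsLocalRing R] [IsNoetherianRing R]
    (hS : LocCoh.HasSk 1 R R) (h0 : LocCoh.depth R R = 0) : ringKrullDim R = 0 := by
  rw [← IsLocalRing.maximalIdeal_height_eq_ringKrullDim,
    SerreLib.height_eq_zero_of_hasSk_one hS (Depth.depth_self_eq_zero_iff.1 h0)]
  rfl

variable {F : Scheme.{u}} {k : Type u} [Field k] (q : F ⟶ Spec (CommRingCat.of k)) [LocallyOfFiniteType q]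

include q in
theorem isCatenary_stalk (z : F) : CAlg.IsCatenary (F.presheaf.stalk z) :=
  (CatSpaceLib.isCatenarySpace_iff_stalks (X := F)).1
    ((CatSpaceLib.forall_isCatenarySpace_iff (Spec (CommRingCat.of k))).2
      (fun s => (DimFormulaLib.isField_stalk k s).2) F q inferInstance) z

include q in
/-- Near a point with `(S_2)` all components of a scheme over a field have the same dimension. -/
theorem exists_component_dim (z : F) (hS : LocCoh.HasSk 2 (F.presheaf.stalk z) (F.presheaf.stalk z)) :
    ∃ e : ℕ, FlatMor.localDim F z = (e : WithBot ℕ∞) ∧ ∀ w : F, w ⤳ z → (∀ v : F, v ⤳ w → v = w) →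
      topologicalKrullDim ↥(closure ({w} : Set F)) = (e : WithBot ℕ∞) := by
  haveI : IsLocallyNoetherian F := LocallyOfFiniteType.isLocallyNoetherian q
  have hF : EGA4.IsEquidim (F.presheaf.stalk z) := fun p hp =>
    S1717.result _ (isCatenary_stalk q z) hS p hp
  have hfield := (DimFormulaLib.isField_stalk k (q z)).1
  have hY : EGA4.IsEquidim ((Spec (CommRingCat.of k)).presheaf.stalk (q z)) := by
    letI := hfield.toField
    intro p hp
    haveI := hp.1.1
    rw [(Ideal.eq_bot_or_top p).resolve_right hp.1.1.ne_top]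
    exact ringKrullDim_eq_of_ringEquiv (RingEquiv.quotientBot _)
  have hdim : ringKrullDim (F.presheaf.stalk z) = ringKrullDim ((Spec (CommRingCat.of k)).presheaf.stalk (q z)) +
      ringKrullDim ((q.fiber (q z)).presheaf.stalk (q.asFiber z)) := by
    rw [ringKrullDim_eq_zero_of_isField hfield, zero_add, ringKrullDim_stalk_eq_coheight,
      ringKrullDim_stalk_eq_coheight]
    let e : ↥(q.fiber (q z)) ≃o ↥F :=
      { toEquiv := (DimFormulaLib.isHomeomorph_fiberι q (q z)).homeomorph.toEquiv
        map_rel_iff' := fun {u v} => (q.fiberι (q z)).isEmbedding.isInducing.specializes_iff }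
    have he : e (q.asFiber z) = z := q.fiberι_asFiber z
    have h := Order.coheight_orderIso e (q.asFiber z)
    rw [he] at h
    rw [h]
  obtain ⟨c, e, he, hP⟩ := DimFormulaLib.equidimAt_data q z
    (DimFormulaLib.isEquidimAt_of_formula q z hY hF hdim)
  refine ⟨e, (DimFormulaLib.localDim_eq_fibreDimAt_of_subsingleton q z).trans he, fun w hw hmin => ?_⟩
  obtain ⟨P, hPq, rfl⟩ := c.exists_le hw
  have hPmin : IsMin P := fun P' hP' => by
    refine (show P' = P from c.j.isOpenEmbedding.injective (hmin _ ?_)).ge
    exact ((PrimeSpectrum.le_iff_specializes _ _).1 hP').map c.j.continuous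
  obtain ⟨t, ht, hdimw⟩ := FlatDim.topologicalKrullDim_closure k q (c.j P)
  rw [c.resTrdegAt_eq, (hP P hPmin hPq).2] at ht
  rw [hdimw, show t = e by exact_mod_cast ht.symm]

end Groth.Agent.QGorNhdLib
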