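import Groth.Agent.QGorNhdLib.Basic
import Groth.Prelude.Def_Cyc

/-!
The open set of points near which the fibres are of pure dimension `n`.
-/

set_option autoImplicit false
set_option linter.style.haveILetI false
universe u

open CategoryTheory CategoryTheory.Limits AlgebraicGeometry Topology Groth.Agent.DimFormulaLib

namespace Groth.Agent.QGorNhdLib

variable {Y T : Scheme.{u}} (f : Y ⟶ T) [LocallyOfFinitePresentation f]

/-- All associated points of the fibre specializing to `x` have closures of dimension `n`. -/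
def PureAt (n : ℕ) (x : Y) : Prop :=
  ∀ z ∈ AssSch.Ass ((Scheme.Modules.pullback (f.fiberι (f.base x))).obj (Coh.structureModule Y)),
    f.asFiber x ∈ closure {z} → ∃ m ∈ ({n} : Finset ℕ),
      topologicalKrullDim ↥(closure ({z} : Set ↥(f.fiber (f.base x)))) = (m : WithBot ℕ∞)

theorem isOpen_pureAt [Flat f] (n : ℕ) : IsOpen {x : Y | PureAt f n x} := by
  haveI := FibreDepth.isQCoh_of_isFP _ (FlatStage.isFP_structureModule Y)
  exact FibreDepth.isOpen_forall_ass_dims f _ (FlatStage.isFP_structureModule Y)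
    (fun x => (FlatStage.isFlatOverAt_structureModule f x).2 (Flat.stalkMap f x)) {n}

/-- At a point with `(S_k)`, `k ≥ 2`, of the fibre, with `(S_k)` open, the fibre is pure. -/
theorem pureAt_of_hasSk {y : Y} {U : Set Y} (hU : IsOpen U) (hy : y ∈ U)
    (hS : ∀ x ∈ U, LocCoh.HasSk 2 ((f.fiber (f.base x)).presheaf.stalk (f.asFiber x))
      ((f.fiber (f.base x)).presheaf.stalk (f.asFiber x))) :
    ∃ n : ℕ, PureAt f n y ∧ FlatMor.fibreDimAt f y = (n : WithBot ℕ∞) := by
  haveI := FibreDepth.isQCoh_of_isFP _ (FlatStage.isFP_structureModule Y)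
  haveI : LocallyOfFiniteType (f.fiberToSpecResidueField (f y)) :=
    MorphismProperty.pullback_snd _ _ inferInstance
  obtain ⟨e, he, hcomp⟩ := exists_component_dim (k := T.residueField (f y)) (f.fiberToSpecResidueField (f y)) (f.asFiber y) (hS y hy)
  refine ⟨e, fun z hz hyz => ⟨e, Finset.mem_singleton_self e, hcomp z (specializes_iff_mem_closure.2 hyz) ?_⟩, he⟩
  have hsp : f.fiberι (f y) z ⤳ y := by
    have h := (specializes_iff_mem_closure.2 hyz).map (f.fiberι (f y)).continuous
    rwa [f.fiberι_asFiber] at h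
  have hzU : f.fiberι (f y) z ∈ U := hsp.mem_open hU hy
  have hdepth := (FibreDepth.ass_iff f _ (FlatStage.isFP_structureModule Y) (f y) z).1 hz
  rw [fiberDepth_structureModule] at hdepth
  haveI := FibreDepth.isNoetherianRing_fibre_stalk f (f.base (f.fiberι (f y) z)) (f.asFiber (f.fiberι (f y) z))
  have hdim := dim_zero_of_hasSk_one (GeomRk.hasSk_mono (by norm_num) (hS _ hzU)) hdepth
  have h0 : ringKrullDim ((f.fiber (f y)).presheaf.stalk z) = 0 :=
    (FibreDepth.fib_transfer f (f y) z fun y z => ringKrullDim ((f.fiber y).presheaf.stalk z) = 0).2.1 hdim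
  rw [ringKrullDim_stalk_eq_coheight] at h0
  intro v hv
  have h1 : IsMax z := Order.coheight_eq_zero.1 (by exact_mod_cast h0)
  exact hv.antisymm (Scheme.le_iff_specializes.1 (h1 (Scheme.le_iff_specializes.2 hv))) |>.eq

/-- On the pure locus the dimension of the local ring of the fibre and the transcendence degree add up to `n`. -/
theorem dims_of_pureAt [IsLocallyNoetherian T] {n : ℕ} {x : Y} (h : PureAt f n x) :
    ∃ d t : ℕ, ringKrullDim ((f.fiber (f x)).presheaf.stalk (f.asFiber x)) = (d : WithBot ℕ∞) ∧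
      resTrdegAt f x = t ∧ d + t = n ∧ FlatMor.fibreDimAt f x = (n : WithBot ℕ∞) := by
  haveI := FibreDepth.isQCoh_of_isFP _ (FlatStage.isFP_structureModule Y)
  obtain ⟨c⟩ := DimFormulaLib.exists_chart f x
  obtain ⟨P, m, hP, hPp, hmin, hPm, hfd⟩ := c.exists_component
  have hw : f (c.j P) = f x := by
    rw [c.apply_j, hPp]
    exact c.hp
  obtain ⟨z, hz⟩ : c.j P ∈ Set.range (f.fiberι (f x)) := by rw [f.range_fiberι]; exact hw
  have hass : z ∈ AssSch.Ass ((Scheme.Modules.pullback (f.fiberι (f x))).obj (Coh.structureModule Y)) := by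
    refine (FibreDepth.ass_iff f _ (FlatStage.isFP_structureModule Y) (f x) z).2 ?_
    rw [hz]
    refine FibreDepth.fiberDepth_zero_of_supp_zero f _ (FlatStage.isFP_structureModule Y) ?_
    rw [fiberSupp_structureModule]
    exact (c.fibreDimAt_of_minInFibre hmin m hPm).2
  have hsp : z ⤳ f.asFiber x := by
    refine (f.fiberι (f x)).isEmbedding.isInducing.specializes_iff.1 ?_
    rw [hz, f.fiberι_asFiber]
    exact c.specializes hP
  obtain ⟨n', hn', hdim⟩ := h z hass (specializes_iff_mem_closure.1 hsp)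
  rw [Finset.mem_singleton] at hn'
  subst hn'
  rw [DimFormulaLib.topologicalKrullDim_closure_singleton,
    DimFormulaLib.height_in_fibre f (f x) z m ((congrArg (resTrdegAt f) hz).trans ((c.resTrdegAt_eq P).trans hPm))] at hdim
  have hmn : m = n' := by exact_mod_cast hdim
  obtain ⟨a, b, d, t, -, -, hd, ht, hloc, -, -, -, -⟩ := c.dims
  refine ⟨d, t, hd, c.resTrdegAt_self.trans ht, ?_, hfd.trans (by rw [hmn])⟩
  have : m = d + t := by exact_mod_cast hfd.symm.trans hloc
  omega

omit [LocallyOfFinitePresentation f] in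
theorem fibreDimAt_ι [LocallyOfFiniteType f] {U : Y.Opens} (u : U) :
    FlatMor.fibreDimAt (U.ι ≫ f) u = FlatMor.fibreDimAt f (U.ι u) := by
  obtain ⟨c⟩ := DimFormulaLib.exists_chart (U.ι ≫ f) u
  rw [c.fibreDimAt_eq, c.push.fibreDimAt_eq]
  rfl

end Groth.Agent.QGorNhdLib
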